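import Mathlib

/-! Thick generalized polygons as graphs: non-backtracking walks, convex subsets, counting. -/

set_option autoImplicit false

namespace CL.US

variable {V : Type*}

/-- A non-backtracking walk with `k + 1` edges, first edge `(a, b)` and last edge `(c, d)`. -/
inductive Wk (adj : V → V → Prop) : ℕ → V → V → V → V → Prop
  | base {a b : V} : adj a b → Wk adj 0 a b a b
  | step {k : ℕ} {a b c d e : V} : Wk adj k a b c d → adj d e → e ≠ c → Wk adj (k + 1) a b d e

/-- A thick generalized `n`-gon. -/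
structure Gp (adj : V → V → Prop) (ty : V → Bool) (n : ℕ) : Prop where
  three : 3 ≤ n
  symm : ∀ {a b : V}, adj a b → adj b a
  ty_ne : ∀ {a b : V}, adj a b → ty b = !ty a
  girth : ∀ {k : ℕ} {a b c : V}, Wk adj k a b c a → 2 * n ≤ k + 1
  diam : ∀ a d : V, a = d ∨ ∃ k b c, k + 1 ≤ n ∧ Wk adj k a b c d
  thick : ∀ a y z : V, ∃ b, adj a b ∧ b ≠ y ∧ b ≠ z

/-- The alternating product `x y x y ...` with `k` factors. -/
def pr (x y : ℕ) : ℕ → ℕ
  | 0 => 1
  | k + 1 => x * pr y x k

/-- Convex sets of vertices: closed under geodesics of length less than `n`. -/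
def Cvx (adj : V → V → Prop) (n : ℕ) (φ : V → Prop) : Prop :=
  ∀ ⦃k : ℕ⦄ ⦃a b c d : V⦄, Wk adj k a b c d → k + 1 < n → φ a → φ d → φ b ∧ φ c

/-- The valency of a vertex in a set. -/
noncomputable def val (adj : V → V → Prop) (φ : V → Prop) (v : V) : ℕ :=
  {y | adj v y ∧ φ y}.ncard

/-- The ends of the walks with a given first edge. -/
def Sk (adj : V → V → Prop) (φ : V → Prop) (k : ℕ) (a b : V) : Set (V × V) :=
  {p | Wk adj k a b p.1 p.2 ∧ φ p.1 ∧ φ p.2}

/-- The sphere of radius `k + 1`. -/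
def Sph (adj : V → V → Prop) (φ : V → Prop) (k : ℕ) (a : V) : Set V :=
  {d | φ d ∧ ∃ b c, Wk adj k a b c d}

theorem ncard_le_mul {α β : Type*} [Finite α] [Finite β] (s : Set α) (t : Set β)
    (R : β → α → Prop) {m : ℕ} (ex : ∀ x ∈ s, ∃ y ∈ t, R y x)
    (h : ∀ y ∈ t, {x | x ∈ s ∧ R y x}.ncard ≤ m) : s.ncard ≤ t.ncard * m := by
  classical
  rw [Set.ncard_eq_toFinset_card s, Set.ncard_eq_toFinset_card t, ← mul_one (Finset.card _)]
  refine Finset.card_mul_le_card_mul (fun x y => R y x) (fun x hx => ?_) fun y hy => ?_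
  · obtain ⟨y, hy, e⟩ := ex x (by simpa using hx)
    exact Finset.card_pos.2 ⟨y, by simp [hy, e]⟩
  · refine le_trans (le_of_eq ?_) (h y (by simpa using hy))
    rw [← Set.ncard_coe_finset]
    congr 1
    ext x
    simp

theorem mul_le_ncard {α β : Type*} [Finite α] [Finite β] (s : Set α) (t : Set β)
    (R : β → α → Prop) {m : ℕ} (un : ∀ x ∈ s, ∀ y ∈ t, ∀ y' ∈ t, R y x → R y' x → y = y')
    (h : ∀ y ∈ t, m ≤ {x | x ∈ s ∧ R y x}.ncard) : t.ncard * m ≤ s.ncard := by
  classical
  rw [Set.ncard_eq_toFinset_card s, Set.ncard_eq_toFinset_card t, ← mul_one (Finset.card s.toFinite.toFinset)]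
  refine Finset.card_mul_le_card_mul R (fun y hy => ?_) fun x hx => ?_
  · refine le_trans (h y (by simpa using hy)) (le_of_eq ?_)
    rw [← Set.ncard_coe_finset]
    congr 1
    ext x
    simp
  · refine Finset.card_le_one.2 fun y hy y' hy' => ?_
    simp only [Finset.mem_bipartiteBelow, Set.Finite.mem_toFinset] at hy hy' hx
    exact un x hx y hy.1 y' hy'.1 hy.2 hy'.2

theorem ncard_eq_mul {α β : Type*} [Finite α] [Finite β] (s : Set α) (t : Set β)
    (R : β → α → Prop) {m : ℕ} (ex : ∀ x ∈ s, ∃ y ∈ t, R y x)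
    (un : ∀ x ∈ s, ∀ y ∈ t, ∀ y' ∈ t, R y x → R y' x → y = y')
    (h : ∀ y ∈ t, {x | x ∈ s ∧ R y x}.ncard = m) : s.ncard = t.ncard * m :=
  le_antisymm (ncard_le_mul s t R ex fun y hy => (h y hy).le)
    (mul_le_ncard s t R un fun y hy => (h y hy).ge)

theorem exists_ne_two {α : Type*} {s : Set α} (h : 3 ≤ s.ncard) (y z : α) :
    ∃ w ∈ s, w ≠ y ∧ w ≠ z := by
  by_contra! H
  have : s ⊆ {y, z} := fun w hw => by
    by_cases e : w = y
    · exact Or.inl e
    · exact Or.inr (H w hw e)
  have h1 := Set.ncard_le_ncard this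
  have h2 := Set.ncard_insert_le y ({z} : Set α)
  rw [Set.ncard_singleton] at h2
  omega

namespace Wk

variable {adj : V → V → Prop} {j k : ℕ} {a b c d e f : V}

theorem fst (h : Wk adj k a b c d) : adj a b := by
  induction h with
  | base h => exact h
  | step _ _ _ ih => exact ih

theorem lst (h : Wk adj k a b c d) : adj c d := by
  cases h with
  | base h => exact h
  | step _ h _ => exact h

theorem zero (h : Wk adj 0 a b c d) : c = a ∧ d = b := by
  cases h; exact ⟨rfl, rfl⟩

theorem back (h : Wk adj (k + 1) a b c d) : ∃ c', Wk adj k a b c' c ∧ d ≠ c' := by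
  cases h with
  | step h _ h' => exact ⟨_, h, h'⟩

theorem cons (h : Wk adj k b c d e) (h1 : adj a b) (h2 : c ≠ a) : Wk adj (k + 1) a b d e := by
  induction h with
  | base h => exact .step (.base h1) h h2
  | step _ h h' ih => exact .step (ih h1 h2) h h'

theorem front (h : Wk adj (k + 1) a b c d) : ∃ b', b' ≠ a ∧ Wk adj k b b' c d := by
  induction k generalizing c d with
  | zero =>
    obtain ⟨c', h1, h2⟩ := h.back
    obtain ⟨rfl, rfl⟩ := h1.zero
    exact ⟨d, h2, .base h.lst⟩
  | succ k ih =>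
    obtain ⟨c', h1, h2⟩ := h.back
    obtain ⟨b', e1, e2⟩ := ih h1
    exact ⟨b', e1, .step e2 h.lst h2⟩

theorem trans (h : Wk adj j a b c d) (h' : Wk adj k c d e f) : Wk adj (j + k) a b e f := by
  induction h' with
  | base _ => exact h
  | step _ h1 h2 ih => exact .step (ih h) h1 h2

theorem split (h : Wk adj (j + k) a b e f) : ∃ c d, Wk adj j a b c d ∧ Wk adj k c d e f := by
  induction k generalizing e f with
  | zero => exact ⟨e, f, h, .base h.lst⟩
  | succ k ih =>
    obtain ⟨c', h1, h2⟩ := Wk.back (k := j + k) h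
    obtain ⟨c, d, e1, e2⟩ := ih h1
    exact ⟨c, d, e1, .step e2 h.lst h2⟩

theorem map {W : Type*} {adj' : W → W → Prop} {σ : V → W} (hσ : Function.Injective σ)
    (ha : ∀ x y, adj x y → adj' (σ x) (σ y)) (h : Wk adj k a b c d) :
    Wk adj' k (σ a) (σ b) (σ c) (σ d) := by
  induction h with
  | base h => exact .base (ha _ _ h)
  | step _ h h' ih => exact .step ih (ha _ _ h) (hσ.ne h')

end Wk

namespace Gp

variable {adj : V → V → Prop} {ty : V → Bool} {n : ℕ} (P : Gp adj ty n)
variable {j k : ℕ} {a b c d e f b' c' d' : V}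
include P

theorem ne (h : adj a b) : a ≠ b := fun e => by
  have := P.ty_ne h
  rw [e] at this
  cases hb : ty b <;> simp [hb] at this

theorem rev (h : Wk adj k a b c d) : Wk adj k d c b a := by
  induction h with
  | base h => exact .base (P.symm h)
  | step _ h h' ih => exact ih.cons (P.symm h) h'.symm

omit P in
/-- Gluing two walks at a common vertex. -/
theorem glue (h : Wk adj j a b c d) (h' : Wk adj k d c' e f) (hc : c' ≠ c) :
    Wk adj (j + 1 + k) a b e f :=
  (h.step h'.fst hc).trans h'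

theorem ty_even (h : Wk adj k a b c d) : ty d = (if Even k then !ty a else ty a) := by
  induction h with
  | base h => simpa using P.ty_ne h
  | step _ h _ ih =>
    rw [P.ty_ne h, ih]
    rename_i k _ _ _ _ _ _ _
    by_cases hk : Even k
    · simp [hk, Nat.even_add_one]
    · simp [hk, Nat.even_add_one]

theorem par (h : Wk adj j a b c d) (h' : Wk adj k a b' c' d) : j % 2 = k % 2 := by
  have e1 := P.ty_even h
  have e2 := P.ty_even h'
  rw [e1] at e2
  rcases Nat.even_or_odd j with hj | hj <;> rcases Nat.even_or_odd k with hk | hk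
  · rw [Nat.even_iff.1 hj, Nat.even_iff.1 hk]
  · simp [hj, Nat.not_even_iff_odd.2 hk] at e2
  · simp [hk, Nat.not_even_iff_odd.2 hj] at e2
  · rw [Nat.odd_iff.1 hj, Nat.odd_iff.1 hk]

/-- Uniqueness of short walks. -/
theorem uniq (h : Wk adj j a b c d) (h' : Wk adj k a b' c' d) (hl : j + k + 2 < 2 * n) :
    j = k ∧ b = b' ∧ c = c' := by
  induction j generalizing k c c' d with
  | zero =>
    obtain ⟨rfl, rfl⟩ := h.zero
    by_cases hc : c' = c
    · subst hc
      cases k with
      | zero => exact ⟨rfl, h'.zero.2, rfl⟩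
      | succ k =>
        obtain ⟨x, h1, -⟩ := h'.back
        have := P.girth h1
        omega
    · have := P.girth (glue h (P.rev h') hc)
      omega
  | succ j ih =>
    by_cases hc : c' = c
    · subst hc
      obtain ⟨x, h1, -⟩ := h.back
      cases k with
      | zero =>
        obtain ⟨rfl, -⟩ := h'.zero
        have := P.girth h1
        omega
      | succ k =>
        obtain ⟨y, h2, -⟩ := h'.back
        obtain ⟨e1, e2, -⟩ := ih h1 h2 (by omega)
        exact ⟨by rw [e1], e2, rfl⟩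
    · have := P.girth (glue h (P.rev h') hc)
      omega

theorem exists_adj (a y : V) : ∃ b, adj a b ∧ b ≠ y :=
  (P.thick a y y).imp fun _ h => ⟨h.1, h.2.1⟩

/-- Walks extend. -/
theorem extend (h : adj a b) (k : ℕ) : ∃ c d, Wk adj k a b c d := by
  induction k with
  | zero => exact ⟨a, b, .base h⟩
  | succ k ih =>
    obtain ⟨c, d, h⟩ := ih
    obtain ⟨e, h1, h2⟩ := P.exists_adj d c
    exact ⟨d, e, h.step h1 h2⟩

/-- From every neighbour of `a` there is a geodesic to a vertex opposite `a`. -/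
theorem opp (h : Wk adj (k + 1) a b c d) (hk : k + 2 = n) {y : V} (hy : adj a y) :
    ∃ c', Wk adj (k + 1) a y c' d := by
  have h3 := P.three
  rcases P.diam y d with rfl | ⟨j, u, c', hj, h1⟩
  · have := (P.uniq h (.base hy) (by omega)).1
    omega
  by_cases hu : u = a
  · subst hu
    cases j with
    | zero =>
      obtain ⟨-, rfl⟩ := h1.zero
      have := P.girth h
      omega
    | succ j =>
      obtain ⟨x, -, h2⟩ := h1.front
      have := (P.uniq h h2 (by omega)).1
      omega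
  · have h2 := h1.cons hy hu
    have p := P.par h h2
    by_cases e : j = k
    · subst e
      exact ⟨c', h2⟩
    · have := (P.uniq h h2 (by omega)).1
      omega

/-- A neighbour of the end of a geodesic of length `n - 1`, other than the last vertex but one,
closes up; conversely an apartment is determined: the walk of length `n + 1` can be rotated inside
a convex set. -/
theorem rot {φ : V → Prop} (hφ : Cvx adj n φ) (h : Wk adj n a b c d) (pa : φ a) (pd : φ d) :
    ∃ e, φ e ∧ adj d e ∧ e ≠ c := by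
  have h3 := P.three
  obtain ⟨m, rfl⟩ : ∃ m, n = m + 3 := ⟨n - 3, by omega⟩
  obtain ⟨b1, hb, h1⟩ := h.front
  obtain ⟨e, h2⟩ := P.opp (k := m + 1) h1 rfl (P.symm h.fst)
  obtain ⟨x, -, h3⟩ := h2.front
  refine ⟨e, (hφ h3 (by omega) pa pd).2, P.symm h3.lst, fun he => ?_⟩
  subst he
  obtain ⟨y, h4, -⟩ := h3.back
  obtain ⟨z, h5, -⟩ := h.back
  have := (P.uniq h4 h5 (by omega)).1
  omega

omit P in
/-- Inner vertices of a walk of length at most `n + 1` whose first and last edges lie in a convex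
set lie in the set. -/
theorem inner {φ : V → Prop} (hφ : Cvx adj n φ) (h : Wk adj j a b c d) (h' : Wk adj k c d e f)
    (hl : j + k ≤ n) (pa : φ a) (pb : φ b) (pe : φ e) (pf : φ f) : φ c ∧ φ d := by
  induction j generalizing a b with
  | zero => obtain ⟨rfl, rfl⟩ := h.zero; exact ⟨pa, pb⟩
  | succ j ih =>
    obtain ⟨b1, hb, h1⟩ := h.front
    refine ih h1 (by omega) pb ?_
    have h2 := h1.trans h'
    rcases Nat.eq_zero_or_pos (j + k) with e0 | e0
    · rw [e0] at h2
      exact h2.zero.2 ▸ pf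
    · obtain ⟨i, hi⟩ : ∃ i, j + k = i + 1 := ⟨j + k - 1, by omega⟩
      rw [hi] at h2
      obtain ⟨x, h3, -⟩ := h2.back
      exact (hφ h3 (by omega) pb pe).1

/-- An edge of a walk of length `n + 1` with ends in a convex set starts such a walk. -/
theorem ap {φ : V → Prop} (hφ : Cvx adj n φ) (h : Wk adj j a b c d) (h' : Wk adj k c d e f)
    (hl : j + k = n) (pa : φ a) (pb : φ b) (pe : φ e) (pf : φ f) :
    ∃ e' f', Wk adj n c d e' f' ∧ φ e' ∧ φ f' := by
  induction j generalizing a b k e f with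
  | zero =>
    obtain ⟨rfl, rfl⟩ := h.zero
    exact ⟨e, f, by rwa [← hl, zero_add], pe, pf⟩
  | succ j ih =>
    obtain ⟨x, px, h1, h2⟩ := P.rot hφ (hl ▸ h.trans h') pa pf
    obtain ⟨b1, hb, h3⟩ := h.front
    have pb1 := (inner hφ ((Wk.base h.fst).step h3.fst hb) (h3.trans h') (by omega)
      pa pb pe pf).2
    exact ih h3 (h'.step h1 h2) (by omega) pb pb1 pf px

/-- The fixed vertices of a family of automorphisms form a convex set. -/
theorem cvx_fix {ι : Type*} (σ : ι → V → V) (hσ : ∀ i, Function.Injective (σ i))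
    (ha : ∀ i x y, adj x y → adj (σ i x) (σ i y)) : Cvx adj n fun v => ∀ i, σ i v = v :=
  fun k a b c d h hk pa pd => by
    have : ∀ i, b = σ i b ∧ c = σ i c := fun i => by
      have h1 := h.map (hσ i) (ha i)
      rw [pa i, pd i] at h1
      exact (P.uniq h h1 (by omega)).2
    exact ⟨fun i => (this i).1.symm, fun i => (this i).2.symm⟩

omit P in
theorem cvx_true : Cvx adj n fun _ => True := fun _ _ _ _ _ _ _ _ _ => ⟨trivial, trivial⟩

/-- Opposite vertices of a convex set have the same valency in the set. -/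
theorem val_le [Finite V] {φ : V → Prop} (hφ : Cvx adj n φ) (h : Wk adj (k + 1) a b c d)
    (hk : k + 2 = n) (pd : φ d) :
    val adj φ a ≤ val adj φ d := by
  have key : ∀ y, ∃ c', adj a y → Wk adj (k + 1) a y c' d := fun y => by
    by_cases hy : adj a y
    · exact (P.opp h hk hy).imp fun _ H _ => H
    · exact ⟨y, fun H => absurd H hy⟩
  choose g hg using key
  refine Set.ncard_le_ncard_of_injOn g (fun y hy => ?_) fun y hy z hz e => ?_
  · obtain ⟨x, -, h1⟩ := (hg y hy.1).front
    exact ⟨P.symm h1.lst, (hφ h1 (by omega) hy.2 pd).2⟩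
  · obtain ⟨x, h1, -⟩ := (hg y hy.1).back
    obtain ⟨x', h2, -⟩ := (hg z hz.1).back
    rw [e] at h1
    exact (P.uniq h1 h2 (by omega)).2.1

theorem val_eq [Finite V] {φ : V → Prop} (hφ : Cvx adj n φ) (h : Wk adj (k + 1) a b c d)
    (hk : k + 2 = n) (pa : φ a) (pd : φ d) :
    val adj φ a = val adj φ d :=
  le_antisymm (P.val_le hφ h hk pd) (P.val_le hφ (P.rev h) hk pa)

/-- A convex set containing an apartment and thick at one of its edges is regular. -/
theorem regular [Finite V] {φ : V → Prop} (hφ : Cvx adj n φ) (h : Wk adj n a b c d) (pa : φ a)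
    (pb : φ b) (pc : φ c) (pd : φ d) (ta : 3 ≤ val adj φ a) (tb : 3 ≤ val adj φ b) {v : V}
    (pv : φ v) : val adj φ v = if ty v = ty a then val adj φ a else val adj φ b := by
  have h3 := P.three
  obtain ⟨m, hm⟩ : ∃ m, m + 2 = n := ⟨n - 2, by omega⟩
  let Gd : V → Prop := fun x => φ x ∧ (∃ y c z, φ z ∧ Wk adj (m + 1) x y c z) ∧
    val adj φ x = if ty x = ty a then val adj φ a else val adj φ b
  have nb : ∀ {x y y' : V}, Gd x → Gd y → adj x y → adj x y' → φ y' → Gd y' := by
    rintro x y y' ⟨px, ⟨u, w, z, pz, hz⟩, vx⟩ ⟨py, -, vy⟩ xy xy' py'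
    obtain ⟨c1, h1⟩ := P.opp hz hm xy
    obtain ⟨c2, h2⟩ := P.opp hz hm xy'
    obtain ⟨w, ⟨zw, pw⟩, w1, w2⟩ := exists_ne_two (s := {y | adj z y ∧ φ y}) (by
      have := P.val_eq hφ hz hm px pz
      unfold val at this vx ta tb
      rw [← this, vx]
      split_ifs <;> assumption) c1 c2
    obtain ⟨y1, -, h1⟩ := h1.front
    obtain ⟨y2, -, h2⟩ := h2.front
    refine ⟨py', ⟨_, _, w, pw, h2.step zw w2⟩, ?_⟩
    rw [P.val_eq hφ (h2.step zw w2) hm py' pw, ← P.val_eq hφ (h1.step zw w1) hm py pw, vy,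
      P.ty_ne xy, P.ty_ne xy']
  subst hm
  have Ga : Gd a := by
    obtain ⟨x, h1, -⟩ := h.back
    exact ⟨pa, ⟨_, _, c, pc, h1⟩, by simp⟩
  have Gb : Gd b := by
    obtain ⟨x, -, h1⟩ := h.front
    exact ⟨pb, ⟨_, _, d, pd, h1⟩, by simp [P.ty_ne h.fst]⟩
  have wk : ∀ (k : ℕ) {x y c d : V}, Wk adj k x y c d → k ≤ m + 2 → Gd x → Gd y → φ c → φ d →
      Gd d := by
    intro k
    induction k with
    | zero => intro x y c d h _ _ gy _ _; exact h.zero.2 ▸ gy
    | succ k ih =>
      intro x y c d h hk gx gy pc pd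
      obtain ⟨y', hy', h1⟩ := h.front
      exact ih h1 (by omega) gy (nb gy gx (P.symm h.fst) h1.fst
        (inner hφ ((Wk.base h.fst).step h1.fst hy') h1 (by omega) gx.1 gy.1 pc pd).2) pc pd
  rcases P.diam a v with rfl | ⟨k, y, c', hk, h1⟩
  · exact Ga.2.2
  · by_cases e : k + 1 < m + 2
    · obtain ⟨py, pc'⟩ := hφ h1 e pa pv
      exact (wk k h1 (by omega) Ga (nb Ga Gb h.fst h1.fst py) pc' pv).2.2
    · obtain rfl : k = m + 1 := by omega
      obtain ⟨c2, h2⟩ := P.opp h1 rfl h.fst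
      obtain ⟨y', -, h3⟩ := h2.front
      exact (wk _ h2 (by omega) Ga Gb (hφ h3 (by omega) pb pv).2 pv).2.2

theorem three_le_val [Finite V] (a : V) : 3 ≤ val adj (fun _ => True) a := by
  obtain ⟨x, hx, -⟩ := P.exists_adj a a
  obtain ⟨y, hy, yx⟩ := P.exists_adj a x
  obtain ⟨z, hz, zx, zy⟩ := P.thick a x y
  have : ({x, y, z} : Set V).ncard = 3 := Set.ncard_eq_three.2 ⟨x, y, z, yx.symm, zx.symm, zy.symm, rfl⟩
  rw [← this]
  refine Set.ncard_le_ncard ?_
  rintro w (rfl | rfl | rfl) <;> exact ⟨by assumption, trivial⟩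

/-- The polygon is regular. -/
theorem exists_val [Finite V] (a : V) : ∃ q : Bool → ℕ, (∀ t, 2 ≤ q t) ∧
    ∀ v, val adj (fun _ => True) v = q (ty v) + 1 := by
  obtain ⟨b, hb, -⟩ := P.exists_adj a a
  obtain ⟨c, d, h⟩ := P.extend hb n
  have ha := P.three_le_val a
  have hb' := P.three_le_val b
  refine ⟨fun t => (if t = ty a then val adj (fun _ => True) a else val adj (fun _ => True) b) - 1,
    fun t => ?_, fun v => ?_⟩
  · dsimp only
    split_ifs <;> omega
  · rw [P.regular cvx_true h trivial trivial trivial trivial ha hb' trivial]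
    dsimp only
    split_ifs <;> omega

/-- Rigidity: a convex set containing an apartment and the neighbours of both ends of one of its
edges is everything. -/
theorem rigid [Finite V] {φ : V → Prop} (hφ : Cvx adj n φ) (h : Wk adj n a b c d) (pc : φ c)
    (pd : φ d) (fa : ∀ y, adj a y → φ y) (fb : ∀ y, adj b y → φ y) (v : V) : φ v := by
  have pb := fa b h.fst
  have pa := fb a (P.symm h.fst)
  have ea : val adj φ a = val adj (fun _ => True) a :=
    congrArg Set.ncard (Set.ext fun y => ⟨fun H => ⟨H.1, trivial⟩, fun H => ⟨H.1, fa y H.1⟩⟩)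
  have eb : val adj φ b = val adj (fun _ => True) b :=
    congrArg Set.ncard (Set.ext fun y => ⟨fun H => ⟨H.1, trivial⟩, fun H => ⟨H.1, fb y H.1⟩⟩)
  have full : ∀ x, φ x → ∀ y, adj x y → φ y := fun x px y hy => by
    have e1 := P.regular hφ h pa pb pc pd (ea ▸ P.three_le_val a) (eb ▸ P.three_le_val b) px
    have e2 := P.regular cvx_true h trivial trivial trivial trivial (P.three_le_val a)
      (P.three_le_val b) (v := x) trivial
    rw [ea, eb, ← e2] at e1
    have := Set.eq_of_subset_of_ncard_le (s := {y | adj x y ∧ φ y}) (t := {y | adj x y ∧ True})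
      (fun y H => ⟨H.1, trivial⟩) e1.ge
    exact (this.ge (show y ∈ {y | adj x y ∧ True} from ⟨hy, trivial⟩)).2
  rcases P.diam a v with rfl | ⟨k, y, c', -, h1⟩
  · exact pa
  · clear h
    induction h1 with
    | base h => exact full _ pa _ h
    | step _ h _ ih => exact full _ (ih fa pa ea) _ h

theorem card_Sk [Finite V] {φ : V → Prop} (hφ : Cvx adj n φ) {r : Bool → ℕ}
    (hr : ∀ v, φ v → val adj φ v = r (ty v) + 1) (hk : k ≤ n) (h : adj a b) (pa : φ a) (pb : φ b) :
    (Sk adj φ k a b).ncard = pr (r (ty b)) (r (ty a)) k := by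
  induction k generalizing a b with
  | zero =>
    rw [pr, Set.ncard_eq_one]
    exact ⟨(a, b), Set.ext fun p => ⟨fun H => Prod.ext H.1.zero.1 H.1.zero.2, by
      rintro rfl; exact ⟨.base h, pa, pb⟩⟩⟩
  | succ k ih =>
    have c1 : ({y | adj b y ∧ φ y} \ {a}).ncard = r (ty b) := by
      rw [Set.ncard_sdiff_singleton_of_mem (show a ∈ {y | adj b y ∧ φ y} from ⟨P.symm h, pa⟩)]
      have := hr b pb
      unfold val at this
      omega
    rw [pr, ← c1]
    refine ncard_eq_mul _ _ (fun y p => Wk adj k b y p.1 p.2) (fun p hp => ?_)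
      (fun p hp y _ y' _ e e' => ?_) fun y hy => ?_
    · obtain ⟨y, hy, h1⟩ := hp.1.front
      exact ⟨y, ⟨⟨h1.fst, (inner hφ ((Wk.base h).step h1.fst hy) h1 (by omega) pa pb
        hp.2.1 hp.2.2).2⟩, hy⟩, h1⟩
    · cases k with
      | zero => exact e.zero.2.symm.trans e'.zero.2
      | succ k =>
        obtain ⟨x, e1, -⟩ := e.back
        obtain ⟨x', e2, -⟩ := e'.back
        exact (P.uniq e1 e2 (by omega)).2.1
    · have := ih (by omega) hy.1.1 pb hy.1.2
      rw [P.ty_ne hy.1.1, P.ty_ne h, Bool.not_not, ← P.ty_ne h] at this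
      rw [c1, ← this]
      exact congrArg Set.ncard (Set.ext fun p => ⟨fun H => ⟨H.2, H.1.2⟩,
        fun H => ⟨⟨H.1.cons h hy.2, H.2⟩, H.1⟩⟩)

/-- The number of ends of the walks with a given first edge. -/
theorem card_end [Finite V] {φ : V → Prop} (hφ : Cvx adj n φ) {r : Bool → ℕ}
    (hr : ∀ v, φ v → val adj φ v = r (ty v) + 1) (hk : k < n) (h : adj a b) (pa : φ a) (pb : φ b) :
    {d | φ d ∧ ∃ c, Wk adj k a b c d}.ncard = pr (r (ty b)) (r (ty a)) k := by
  rw [← P.card_Sk hφ hr hk.le h pa pb]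
  symm
  refine Set.ncard_congr (fun p _ => p.2) (fun p hp => ⟨hp.2.2, _, hp.1⟩)
    (fun p p' hp hp' e => Prod.ext ?_ e) fun d hd => ?_
  · cases k with
    | zero => exact hp.1.zero.1.trans hp'.1.zero.1.symm
    | succ k =>
      obtain ⟨x, -, e1⟩ := hp.1.front
      obtain ⟨x', -, e2⟩ := hp'.1.front
      rw [e] at e1
      exact (P.uniq e1 e2 (by omega)).2.2
  · obtain ⟨pd, c, h1⟩ := hd
    refine ⟨(c, d), ⟨h1, ?_, pd⟩, rfl⟩
    cases k with
    | zero => exact h1.zero.1 ▸ pa
    | succ k =>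
      obtain ⟨x, -, e1⟩ := h1.front
      exact (hφ e1 (by omega) pb pd).2

theorem card_Sph [Finite V] {φ : V → Prop} (hφ : Cvx adj n φ) {r : Bool → ℕ}
    (hr : ∀ v, φ v → val adj φ v = r (ty v) + 1) (hk : k + 1 < n) (pa : φ a) :
    (Sph adj φ k a).ncard = (r (ty a) + 1) * pr (r (!ty a)) (r (ty a)) k := by
  rw [← hr a pa]
  refine ncard_eq_mul _ _ (fun y d => ∃ c, Wk adj k a y c d) (fun d hd => ?_)
    (fun d hd y _ y' _ e e' => ?_) fun y hy => ?_
  · obtain ⟨pd, b, c, h⟩ := hd
    exact ⟨b, ⟨h.fst, (hφ h hk pa pd).1⟩, c, h⟩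
  · obtain ⟨c, e⟩ := e
    obtain ⟨c', e'⟩ := e'
    exact (P.uniq e e' (by omega)).2.1
  · rw [← P.ty_ne hy.1, ← P.card_end hφ hr (by omega) hy.1 pa hy.2]
    exact congrArg Set.ncard (Set.ext fun d => ⟨fun H => ⟨H.1.1, H.2⟩,
      fun H => ⟨⟨H.1, y, H.2⟩, H.2⟩⟩)

end Gp

end CL.US
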